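import Cfsg.Agent.ChevalleyStructure.SignedSymm
import Cfsg.Prelude.Def_ChevD4
import Cfsg.Prelude.Def_ChevE8

/-!
# Signed embeddings of the tables of Chevalley data (S2187 X3, helper230)

`S : TEmb D D'` : an embedding `e_s ↦ ε_s e_{σ s}`, `h_i ↦ h_{σ₀ i}` of the tables of `D` into those of `D'` (Levi
subalgebra).  `S.Pres A` : the matrix `A` preserves the coordinate subspace of `D`; `S.blk A` the restriction.

* `blk_mul` : `blk (A * B) = blk A * blk B` if `Pres B`;
* `pres_xMat`, `blk_xMat` : `blk (x_{σ r}(t)) = x_r(ε_r t)`.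
-/

set_option autoImplicit false

namespace Cfsg.Agent.H230.X3

open Cfsg.Lie

/-- a signed embedding of the tables of `D` into the tables of `D'` -/
structure TEmb (D D' : ChevalleyDatum) where
  σ : Fin D.nroots → Fin D'.nroots
  σ₀ : Fin D.rank → Fin D'.rank
  ε : Fin D.nroots → ℤ
  inj : Function.Injective σ
  inj₀ : Function.Injective σ₀
  ε_sq : ∀ r, ε r * ε r = 1
  cartan_eq : ∀ i r, (D'.cartanSR.getD (σ₀ i).val #[]).getD (σ r).val 0 = (D.cartanSR.getD i.val #[]).getD r.val 0
  coroot_eq : ∀ i r, (D'.coroot.getD (σ r).val #[]).getD (σ₀ i).val 0 = (D.coroot.getD r.val #[]).getD i.val 0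
  coroot_out : ∀ i r, (∀ j, σ₀ j ≠ i) → (D'.coroot.getD (σ r).val #[]).getD i.val 0 = 0
  neg_iff : ∀ r s : Fin D.nroots, (σ s).val = D'.negIdx.getD (σ r).val 0 ↔ s.val = D.negIdx.getD r.val 0
  ε_neg : ∀ r s : Fin D.nroots, s.val = D.negIdx.getD r.val 0 → ε s = ε r
  chain_eq : ∀ r s u : Fin D.nroots, D'.chainCoeff (σ r).val (σ s).val (σ u).val =
    (D.chainCoeff r.val s.val u.val).map fun q => (q.1, ε u * ε s * ε r ^ q.1 * q.2)
  chain_out : ∀ r s : Fin D.nroots, ∀ u : Fin D'.nroots, (∀ v, σ v ≠ u) →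
    D'.chainCoeff (σ r).val (σ s).val u.val = []

namespace TEmb

variable {D D' : ChevalleyDatum} (S : TEmb D D')

/-- The embedding of the coordinate index set. -/
def em : D.Idx → D'.Idx
  | Sum.inl i => Sum.inl (S.σ₀ i)
  | Sum.inr r => Sum.inr (S.σ r)

theorem em_inj : Function.Injective S.em := by
  rintro (a | a) (b | b) h
  · exact congrArg Sum.inl (S.inj₀ (Sum.inl.inj h))
  · exact absurd h Sum.inl_ne_inr
  · exact absurd h Sum.inr_ne_inl
  · exact congrArg Sum.inr (S.inj (Sum.inr.inj h))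

/-- The signs. -/
def sgn : D.Idx → ℤ
  | Sum.inl _ => 1
  | Sum.inr r => S.ε r

theorem sgn_sq (a : D.Idx) : S.sgn a * S.sgn a = 1 := by
  cases a with
  | inl i => rfl
  | inr r => exact S.ε_sq r

variable {F : Type*} [Field F]

theorem sgn_sq' (a : D.Idx) : ((S.sgn a : ℤ) : F) * ((S.sgn a : ℤ) : F) = 1 := by
  rw [← Int.cast_mul, S.sgn_sq a, Int.cast_one]

theorem ε_sq' (a : Fin D.nroots) : ((S.ε a : ℤ) : F) * ((S.ε a : ℤ) : F) = 1 := by
  rw [← Int.cast_mul, S.ε_sq a, Int.cast_one]

/-- the matrix preserves the coordinate subspace of `D` -/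
def Pres (A : Matrix D'.Idx D'.Idx F) : Prop := ∀ i j, (∀ a, S.em a ≠ i) → A i (S.em j) = 0

/-- the restriction to the coordinate subspace of `D` -/
def blk (A : Matrix D'.Idx D'.Idx F) : Matrix D.Idx D.Idx F :=
  Matrix.of fun a b => ((S.sgn a : ℤ) : F) * A (S.em a) (S.em b) * ((S.sgn b : ℤ) : F)

theorem blk_apply (A : Matrix D'.Idx D'.Idx F) (a b : D.Idx) :
    S.blk A a b = ((S.sgn a : ℤ) : F) * A (S.em a) (S.em b) * ((S.sgn b : ℤ) : F) := rfl

theorem sum_em (f : D'.Idx → F) (hf : ∀ i, (∀ a, S.em a ≠ i) → f i = 0) : ∑ i, f i = ∑ a, f (S.em a) := by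
  rw [← Finset.sum_image (f := f) (s := Finset.univ) (g := S.em) (fun a _ b _ h => S.em_inj h)]
  symm
  refine Finset.sum_subset (Finset.subset_univ _) fun i _ hi => hf i fun a ha => hi ?_
  exact Finset.mem_image.2 ⟨a, Finset.mem_univ a, ha⟩

theorem Pres.one : S.Pres (1 : Matrix D'.Idx D'.Idx F) := fun _ _ h => Matrix.one_apply_ne (h _).symm

theorem Pres.mul {A B : Matrix D'.Idx D'.Idx F} (hA : S.Pres A) (hB : S.Pres B) : S.Pres (A * B) := by
  intro i j hi
  rw [Matrix.mul_apply, S.sum_em _ fun k hk => by rw [hB k j hk, mul_zero]]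
  exact Finset.sum_eq_zero fun a _ => by rw [hA i a hi, zero_mul]

theorem blk_one : S.blk (1 : Matrix D'.Idx D'.Idx F) = 1 := by
  ext a b
  rw [blk_apply]
  by_cases h : a = b
  · subst h
    rw [Matrix.one_apply_eq, Matrix.one_apply_eq, mul_one, S.sgn_sq']
  · rw [Matrix.one_apply_ne h, Matrix.one_apply_ne fun h' => h (S.em_inj h'), mul_zero, zero_mul]

theorem blk_mul {A B : Matrix D'.Idx D'.Idx F} (hB : S.Pres B) : S.blk (A * B) = S.blk A * S.blk B := by
  ext a b
  rw [blk_apply, Matrix.mul_apply, Matrix.mul_apply, S.sum_em _ fun k hk => by rw [hB k b hk, mul_zero],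
    Finset.mul_sum, Finset.sum_mul]
  refine Finset.sum_congr rfl fun c _ => ?_
  rw [blk_apply, blk_apply]
  have h := S.sgn_sq' (F := F) c
  linear_combination (-((S.sgn a : ℤ) : F) * A (S.em a) (S.em c) * B (S.em c) (S.em b) * ((S.sgn b : ℤ) : F)) * h

theorem Pres.map {K : Type*} [Field K] {A : Matrix D'.Idx D'.Idx F} (f : F →+* K) (hA : S.Pres A) :
    S.Pres (A.map f) := fun i j hi => by rw [Matrix.map_apply, hA i j hi, map_zero]

theorem blk_map {K : Type*} [Field K] (A : Matrix D'.Idx D'.Idx F) (f : F →+* K) :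
    S.blk (A.map f) = (S.blk A).map f := by
  ext a b
  rw [blk_apply, Matrix.map_apply, Matrix.map_apply, blk_apply, map_mul, map_mul, map_intCast, map_intCast]

/-- a diagonal matrix -/
theorem pres_diagonal (d : D'.Idx → F) : S.Pres (Matrix.diagonal d) := fun _ _ h =>
  Matrix.diagonal_apply_ne _ (h _).symm

theorem blk_diagonal (d : D'.Idx → F) : S.blk (Matrix.diagonal d) = Matrix.diagonal fun a => d (S.em a) := by
  ext a b
  rw [blk_apply]
  by_cases h : a = b
  · subst h
    rw [Matrix.diagonal_apply_eq, Matrix.diagonal_apply_eq]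
    have h := S.sgn_sq' (F := F) a
    linear_combination (d (S.em a)) * h
  · rw [Matrix.diagonal_apply_ne _ h, Matrix.diagonal_apply_ne _ fun h' => h (S.em_inj h'), mul_zero, zero_mul]

/-! ### root elements -/

theorem pres_xMat (r : Fin D.nroots) (t : F) : S.Pres (D'.xMat F (S.σ r) t) := by
  rintro i (j | s) hi
  · rcases i with i' | u
    · show (if i' = S.σ₀ j then (1 : F) else 0) = 0
      exact if_neg fun h => hi (Sum.inl j) (congrArg Sum.inl h.symm)
    · show (if u = S.σ r then - (((D'.cartanSR.getD (S.σ₀ j).val #[]).getD (S.σ r).val 0 : ℤ) : F) * t else 0) = 0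
      exact if_neg fun h => hi (Sum.inr r) (congrArg Sum.inr h.symm)
  · show D'.xMat F (S.σ r) t i (Sum.inr (S.σ s)) = 0
    have hu : ∀ u, i = Sum.inr u → ∀ v, S.σ v ≠ u := fun u hu v hv => hi (Sum.inr v) (by rw [hu, ← hv]; rfl)
    by_cases hsr : S.σ s = S.σ r
    · rcases i with i' | u
      · simp only [ChevalleyDatum.xMat, Matrix.of_apply]
        rw [if_pos hsr]
      · simp only [ChevalleyDatum.xMat, Matrix.of_apply]
        rw [if_pos hsr, if_neg fun h => hu u rfl r h.symm]
    · by_cases hn : (S.σ s).val = D'.negIdx.getD (S.σ r).val 0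
      · rcases i with i' | u
        · simp only [ChevalleyDatum.xMat, Matrix.of_apply]
          rw [if_neg hsr, if_pos hn, S.coroot_out i' r fun j hj => hi (Sum.inl j) (congrArg Sum.inl hj),
            Int.cast_zero, zero_mul]
        · simp only [ChevalleyDatum.xMat, Matrix.of_apply]
          rw [if_neg hsr, if_pos hn, if_neg fun h => hu u rfl s h.symm, if_neg fun h => hu u rfl r h.symm]
      · rcases i with i' | u
        · simp only [ChevalleyDatum.xMat, Matrix.of_apply]
          rw [if_neg hsr, if_neg hn]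
        · simp only [ChevalleyDatum.xMat, Matrix.of_apply]
          rw [if_neg hsr, if_neg hn, if_neg fun h => hu u rfl s h.symm, S.chain_out r s u (hu u rfl)]
          simp

theorem xMat_em (r : Fin D.nroots) (t : F) (a b : D.Idx) :
    D'.xMat F (S.σ r) (((S.ε r : ℤ) : F) * t) (S.em a) (S.em b) =
      ((S.sgn a : ℤ) : F) * D.xMat F r t a b * ((S.sgn b : ℤ) : F) := by
  have hσ : ∀ u v : Fin D.nroots, S.σ u = S.σ v ↔ u = v := fun u v => S.inj.eq_iff
  have hσ₀ : ∀ u v : Fin D.rank, S.σ₀ u = S.σ₀ v ↔ u = v := fun u v => S.inj₀.eq_iff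
  rcases b with i | s
  · rcases a with i' | u
    · show (if S.σ₀ i' = S.σ₀ i then (1 : F) else 0) =
        ((1 : ℤ) : F) * (if i' = i then (1 : F) else 0) * ((1 : ℤ) : F)
      by_cases h : i' = i
      · subst h
        rw [if_pos rfl, if_pos rfl]; simp
      · rw [if_neg ((hσ₀ _ _).not.mpr h), if_neg h]; simp
    · show (if S.σ u = S.σ r then
          - (((D'.cartanSR.getD (S.σ₀ i).val #[]).getD (S.σ r).val 0 : ℤ) : F) * (((S.ε r : ℤ) : F) * t) else 0) =
        ((S.ε u : ℤ) : F) *
          (if u = r then - (((D.cartanSR.getD i.val #[]).getD r.val 0 : ℤ) : F) * t else 0) * ((1 : ℤ) : F)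
      by_cases h : u = r
      · subst h
        rw [if_pos rfl, if_pos rfl, S.cartan_eq]
        push_cast
        ring
      · rw [if_neg ((hσ _ _).not.mpr h), if_neg h]; simp
  · by_cases hsr : s = r
    · subst hsr
      rcases a with i' | u
      · have e1 : D'.xMat F (S.σ s) (((S.ε s : ℤ) : F) * t) (Sum.inl (S.σ₀ i')) (Sum.inr (S.σ s)) = 0 := by
          simp [ChevalleyDatum.xMat]
        have e2 : D.xMat F s t (Sum.inl i') (Sum.inr s) = 0 := by
          simp [ChevalleyDatum.xMat]
        show D'.xMat F (S.σ s) (((S.ε s : ℤ) : F) * t) (Sum.inl (S.σ₀ i')) (Sum.inr (S.σ s)) = _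
        rw [e1, e2]; simp
      · have e1 : D'.xMat F (S.σ s) (((S.ε s : ℤ) : F) * t) (Sum.inr (S.σ u)) (Sum.inr (S.σ s)) =
            if u = s then 1 else 0 := by
          simp [ChevalleyDatum.xMat, hσ]
        have e2 : D.xMat F s t (Sum.inr u) (Sum.inr s) = if u = s then 1 else 0 := by
          simp [ChevalleyDatum.xMat]
        show D'.xMat F (S.σ s) (((S.ε s : ℤ) : F) * t) (Sum.inr (S.σ u)) (Sum.inr (S.σ s)) = _
        rw [e1, e2]
        by_cases h : u = s
        · subst h
          rw [if_pos rfl, mul_one]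
          exact (S.sgn_sq' (F := F) (Sum.inr u)).symm
        · rw [if_neg h]; simp
    · by_cases hn : s.val = D.negIdx.getD r.val 0
      · have hn' : (S.σ s).val = D'.negIdx.getD (S.σ r).val 0 := (S.neg_iff r s).mpr hn
        have hsr' : ¬ S.σ s = S.σ r := (hσ _ _).not.mpr hsr
        have hε := S.ε_neg r s hn
        rcases a with i' | u
        · have e1 : D'.xMat F (S.σ r) (((S.ε r : ℤ) : F) * t) (Sum.inl (S.σ₀ i')) (Sum.inr (S.σ s)) =
              (((D'.coroot.getD (S.σ r).val #[]).getD (S.σ₀ i').val 0 : ℤ) : F) * (((S.ε r : ℤ) : F) * t) := by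
            simp only [ChevalleyDatum.xMat, Matrix.of_apply]
            rw [if_neg hsr', if_pos hn']
          have e2 : D.xMat F r t (Sum.inl i') (Sum.inr s) =
              (((D.coroot.getD r.val #[]).getD i'.val 0 : ℤ) : F) * t := by
            simp only [ChevalleyDatum.xMat, Matrix.of_apply]
            rw [if_neg hsr, if_pos hn]
          show D'.xMat F (S.σ r) (((S.ε r : ℤ) : F) * t) (Sum.inl (S.σ₀ i')) (Sum.inr (S.σ s)) =
            ((1 : ℤ) : F) * D.xMat F r t (Sum.inl i') (Sum.inr s) * ((S.ε s : ℤ) : F)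
          rw [e1, e2, S.coroot_eq, hε]
          push_cast
          ring
        · have e1 : D'.xMat F (S.σ r) (((S.ε r : ℤ) : F) * t) (Sum.inr (S.σ u)) (Sum.inr (S.σ s)) =
              if S.σ u = S.σ s then 1 else if S.σ u = S.σ r then -((((S.ε r : ℤ) : F) * t) ^ 2) else 0 := by
            simp only [ChevalleyDatum.xMat, Matrix.of_apply]
            rw [if_neg hsr', if_pos hn']
          have e2 : D.xMat F r t (Sum.inr u) (Sum.inr s) =
              if u = s then 1 else if u = r then -(t ^ 2) else 0 := by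
            simp only [ChevalleyDatum.xMat, Matrix.of_apply]
            rw [if_neg hsr, if_pos hn]
          show D'.xMat F (S.σ r) (((S.ε r : ℤ) : F) * t) (Sum.inr (S.σ u)) (Sum.inr (S.σ s)) =
            ((S.ε u : ℤ) : F) * D.xMat F r t (Sum.inr u) (Sum.inr s) * ((S.ε s : ℤ) : F)
          rw [e1, e2]
          by_cases h : u = s
          · subst h
            rw [if_pos rfl, if_pos rfl, mul_one, S.ε_sq']
          · rw [if_neg ((hσ _ _).not.mpr h), if_neg h]
            by_cases h2 : u = r
            · subst h2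
              rw [if_pos rfl, if_pos rfl, hε]
              ring
            · rw [if_neg ((hσ _ _).not.mpr h2), if_neg h2]; simp
      · have hn' : ¬ (S.σ s).val = D'.negIdx.getD (S.σ r).val 0 := (S.neg_iff r s).not.mpr hn
        have hsr' : ¬ S.σ s = S.σ r := (hσ _ _).not.mpr hsr
        rcases a with i' | u
        · have e1 : D'.xMat F (S.σ r) (((S.ε r : ℤ) : F) * t) (Sum.inl (S.σ₀ i')) (Sum.inr (S.σ s)) = 0 := by
            simp only [ChevalleyDatum.xMat, Matrix.of_apply]
            rw [if_neg hsr', if_neg hn']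
          have e2 : D.xMat F r t (Sum.inl i') (Sum.inr s) = 0 := by
            simp only [ChevalleyDatum.xMat, Matrix.of_apply]
            rw [if_neg hsr, if_neg hn]
          show D'.xMat F (S.σ r) (((S.ε r : ℤ) : F) * t) (Sum.inl (S.σ₀ i')) (Sum.inr (S.σ s)) = _
          rw [e1, e2]; simp
        · have e1 : D'.xMat F (S.σ r) (((S.ε r : ℤ) : F) * t) (Sum.inr (S.σ u)) (Sum.inr (S.σ s)) =
              (if S.σ u = S.σ s then 1 else 0) +
              ((D'.chainCoeff (S.σ r).val (S.σ s).val (S.σ u).val).map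
                fun km => ((km.2 : ℤ) : F) * (((S.ε r : ℤ) : F) * t) ^ km.1).sum := by
            simp only [ChevalleyDatum.xMat, Matrix.of_apply]
            rw [if_neg hsr', if_neg hn']
          have e2 : D.xMat F r t (Sum.inr u) (Sum.inr s) =
              (if u = s then 1 else 0) +
              ((D.chainCoeff r.val s.val u.val).map fun km => ((km.2 : ℤ) : F) * t ^ km.1).sum := by
            simp only [ChevalleyDatum.xMat, Matrix.of_apply]
            rw [if_neg hsr, if_neg hn]
          show D'.xMat F (S.σ r) (((S.ε r : ℤ) : F) * t) (Sum.inr (S.σ u)) (Sum.inr (S.σ s)) =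
            ((S.ε u : ℤ) : F) * D.xMat F r t (Sum.inr u) (Sum.inr s) * ((S.ε s : ℤ) : F)
          rw [e1, e2, S.chain_eq, List.map_map, mul_add, add_mul]
          congr 1
          · by_cases h : u = s
            · subst h
              rw [if_pos rfl, if_pos rfl, mul_one, S.ε_sq']
            · rw [if_neg ((hσ _ _).not.mpr h), if_neg h]; simp
          · rw [← List.sum_map_mul_left, ← List.sum_map_mul_right]
            congr 1
            apply List.map_congr_left
            intro q _
            have h1 : ((S.ε r : ℤ) : F) ^ q.1 * ((S.ε r : ℤ) : F) ^ q.1 = 1 := by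
              rw [← mul_pow, S.ε_sq', one_pow]
            simp only [Function.comp_apply]
            push_cast
            rw [mul_pow]
            calc ((S.ε u : ℤ) : F) * ((S.ε s : ℤ) : F) * ((S.ε r : ℤ) : F) ^ q.1 * ((q.2 : ℤ) : F) *
                  (((S.ε r : ℤ) : F) ^ q.1 * t ^ q.1)
                = ((S.ε u : ℤ) : F) * ((S.ε s : ℤ) : F) * (((S.ε r : ℤ) : F) ^ q.1 * ((S.ε r : ℤ) : F) ^ q.1) *
                  (((q.2 : ℤ) : F) * t ^ q.1) := by ring
              _ = _ := by rw [h1]; ring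

/-- **Root elements**: `blk (x_{σ r}(t)) = x_r(ε_r t)`. -/
theorem blk_xMat (r : Fin D.nroots) (t : F) :
    S.blk (D'.xMat F (S.σ r) t) = D.xMat F r (((S.ε r : ℤ) : F) * t) := by
  ext a b
  have h1 := S.xMat_em (F := F) r (((S.ε r : ℤ) : F) * t) a b
  rw [← mul_assoc, S.ε_sq', one_mul] at h1
  rw [blk_apply, h1]
  have ha := S.sgn_sq' (F := F) a
  have hb := S.sgn_sq' (F := F) b
  calc ((S.sgn a : ℤ) : F) * (((S.sgn a : ℤ) : F) * D.xMat F r (((S.ε r : ℤ) : F) * t) a b * ((S.sgn b : ℤ) : F)) *
        ((S.sgn b : ℤ) : F)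
      = (((S.sgn a : ℤ) : F) * ((S.sgn a : ℤ) : F)) * D.xMat F r (((S.ε r : ℤ) : F) * t) a b *
        (((S.sgn b : ℤ) : F) * ((S.sgn b : ℤ) : F)) := by ring
    _ = _ := by rw [ha, hb, one_mul, mul_one]

end TEmb

end Cfsg.Agent.H230.X3

/-!
# `D4` in `E8` (nodes 1, 3, 2, 4), tables (S2187 X3, helper230)
-/

set_option autoImplicit false

namespace Cfsg.Agent.H230.X3

open Cfsg.Lie

/-- the indices of the roots of `D4` -/
def sL : List ℕ := [87, 91, 92, 96, 97, 98, 102, 103, 108, 109, 104, 113, 126, 135, 130, 131, 136, 137, 141, 142, 143,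
  147, 148, 152]

/-- the signs -/
def eL : List ℤ := [1, 1, 1, 1, 1, 1, -1, -1, 1, 1, 1, 1, 1, 1, 1, 1, -1, -1, 1, 1, 1, 1, 1, 1]

/-- the nodes `1, 3, 2, 4` of `E8`: the nodes `0, 1, 2, 3` of `D4` (centre `1`) -/
def nj : Fin 4 → Fin 8 := ![1, 3, 2, 4]

/-- the check of the chain tables -/
def chk1 : Bool := (List.range 24).all fun r => (List.range 24).all fun s =>
  ((chevE8.chain.getD (sL.getD r 0) #[]).toList.filter (fun e => decide (e.1 = sL.getD s 0))).all fun e =>
    e.2.toList.all fun q => sL.elem q.1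

def chk2 : Bool := (List.range 24).all fun r => (List.range 24).all fun s => (List.range 24).all fun u =>
  decide (chevE8.chainCoeff (sL.getD r 0) (sL.getD s 0) (sL.getD u 0) =
    (chevD4.chainCoeff r s u).map fun q => (q.1, eL.getD u 0 * eL.getD s 0 * eL.getD r 0 ^ q.1 * q.2))

set_option maxRecDepth 100000 in
theorem chk1_true : chk1 = true := by decide +kernel

set_option maxRecDepth 100000 in
theorem chk2_true : chk2 = true := by decide +kernel

theorem sL_lt : ∀ r < 24, sL.getD r 0 < 240 := by decide +kernel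

/-- **`D4` in `E8`.** -/
def dE : TEmb chevD4 chevE8 where
  σ r := ⟨sL.getD r.val 0, sL_lt r.val r.2⟩
  σ₀ := nj
  ε r := eL.getD r.val 0
  inj := by
    have h : ∀ r < 24, ∀ s < 24, sL.getD r 0 = sL.getD s 0 → r = s := by decide +kernel
    intro r s e
    exact Fin.ext (h r.val r.2 s.val s.2 (congrArg Fin.val e))
  inj₀ := by
    have h : Function.Injective nj := by decide +kernel
    exact h
  ε_sq := by
    have h : ∀ r < 24, eL.getD r 0 * eL.getD r 0 = 1 := by decide +kernel
    exact fun r => h r.val r.2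
  cartan_eq := by
    have h : ∀ i : Fin 4, ∀ r < 24, (chevE8.cartanSR.getD (nj i).val #[]).getD (sL.getD r 0) 0 =
      (chevD4.cartanSR.getD i.val #[]).getD r 0 := by decide +kernel
    exact fun i r => h i r.val r.2
  coroot_eq := by
    have h : ∀ i : Fin 4, ∀ r < 24, (chevE8.coroot.getD (sL.getD r 0) #[]).getD (nj i).val 0 =
      (chevD4.coroot.getD r #[]).getD i.val 0 := by decide +kernel
    exact fun i r => h i r.val r.2
  coroot_out := by
    have h : ∀ i : Fin 8, ∀ r < 24, (∀ j, nj j ≠ i) → (chevE8.coroot.getD (sL.getD r 0) #[]).getD i.val 0 = 0 := by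
      decide +kernel
    exact fun i r => h i r.val r.2
  neg_iff := by
    have h : ∀ r < 24, ∀ s < 24, sL.getD s 0 = chevE8.negIdx.getD (sL.getD r 0) 0 ↔ s = chevD4.negIdx.getD r 0 := by
      decide +kernel
    exact fun r s => h r.val r.2 s.val s.2
  ε_neg := by
    have h : ∀ r < 24, ∀ s < 24, s = chevD4.negIdx.getD r 0 → eL.getD s 0 = eL.getD r 0 := by
      decide +kernel
    exact fun r s => h r.val r.2 s.val s.2
  chain_eq := by
    intro r s u
    have h := chk2_true
    unfold chk2 at h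
    rw [List.all_eq_true] at h
    have h1 := h r.val (List.mem_range.2 r.2)
    rw [List.all_eq_true] at h1
    have h2 := h1 s.val (List.mem_range.2 s.2)
    rw [List.all_eq_true] at h2
    exact of_decide_eq_true (h2 u.val (List.mem_range.2 u.2))
  chain_out := by
    intro r s u hu
    have h := chk1_true
    unfold chk1 at h
    rw [List.all_eq_true] at h
    have h1 := h r.val (List.mem_range.2 r.2)
    rw [List.all_eq_true] at h1
    have h2 := h1 s.val (List.mem_range.2 s.2)
    rw [List.all_eq_true] at h2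
    unfold ChevalleyDatum.chainCoeff
    rw [List.flatMap_eq_nil_iff]
    intro e he
    have h3 := h2 e he
    rw [List.all_eq_true] at h3
    rw [List.map_eq_nil_iff, List.filter_eq_nil_iff]
    rintro ⟨q, n⟩ hq
    rw [decide_eq_true_eq]
    intro hqu
    have h4 := h3 q (by rw [(List.mem_zipIdx' hq).2]; exact List.getElem_mem _)
    have h5 : q.1 ∈ sL := by
      have h6 : sL.elem q.1 = true := h4
      rwa [List.elem_eq_contains, List.contains_iff_mem] at h6
    have hqu' : q.1 = u.val := hqu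
    rw [hqu'] at h5
    obtain ⟨n, hn, e⟩ := List.mem_iff_getElem.1 h5
    have hn' : n < 24 := hn
    refine hu ⟨n, hn'⟩ (Fin.ext ?_)
    show sL.getD n 0 = u.val
    rw [List.getD_eq_getElem _ _ hn, e]

end Cfsg.Agent.H230.X3
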